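import Mathlib
import Cfsg.Agent.Lib.Helper46.Shult.T1
import Cfsg.Agent.Lib.Helper1.FPF

/-!
# Shult–Gross (S3793), piece T: the representation theoretic core
-/

set_option autoImplicit false
set_option linter.unusedSectionVars false
set_option linter.unusedVariables false

namespace Cfsg.Agent.Lib.Helper46.Shult

open scoped commutatorElement
open Cfsg.Agent.Lib.Helper1.FPF

universe u

theorem map_eq_of_invariant {Q : Type*} [Group Q] [Finite Q] (σ : MulAut Q) (H : Subgroup Q)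
    (h : ∀ g ∈ H, σ g ∈ H) : H.map ((σ : Q ≃* Q) : Q →* Q) = H := by
  apply Subgroup.eq_of_le_of_card_ge
  · rintro _ ⟨g, hg, rfl⟩
    exact h g hg
  · rw [Subgroup.card_map_of_injective (f := ((σ : Q ≃* Q) : Q →* Q)) (MulEquiv.injective σ)]

theorem restr_pow {Q : Type*} [Group Q] (σ : MulAut Q) (H : Subgroup Q)
    (h : H.map ((σ : Q ≃* Q) : Q →* Q) = H) (k : ℕ) (y : H) :
    ((((restr σ H h : MulAut H) ^ k) y : H) : Q) = (σ ^ k) y := by
  rw [mulAut_pow_apply, mulAut_pow_apply]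
  exact restr_iterate σ H h k y

theorem quot_pow {Q : Type*} [Group Q] (σ : MulAut Q) (N : Subgroup Q) [N.Normal]
    (h : N.map ((σ : Q ≃* Q) : Q →* Q) = N) (k : ℕ) (y : Q) :
    ((quot σ N h : MulAut (Q ⧸ N)) ^ k) (y : Q ⧸ N) = (((σ ^ k) y : Q) : Q ⧸ N) := by
  rw [mulAut_pow_apply, mulAut_pow_apply]
  exact quot_iterate σ N h k y

theorem coreT_aux {E : Type*} [Field E] {U : Type*} [AddCommGroup U] [Module E U]
    [IsAlgClosed E] [FiniteDimensional E U]
    {p q : ℕ} (hp : p.Prime) (hp2 : p ≠ 2) (hq : q.Prime) (hpq : p ≠ q)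
    (n : ℕ) (x : Module.End E U) (hx : x ^ p ^ (n + 1) = 1)
    (hpE : (p : E) ≠ 0) (hqE : (q : E) ≠ 0) (hfix : ∀ v, x v = v → v = 0) :
    ∀ (c : ℕ) (Q : Type u) [Group Q] [Finite Q], Nat.card Q = c → IsPGroup q Q →
      ∀ σ : MulAut Q, σ ^ p ^ (n + 1) = 1 → (∀ g, σ g = g → g = 1) →
      ∀ ρ : Q →* Module.End E U, (∀ g, x * ρ g = ρ (σ g) * x) →
      ∀ g, ρ ((σ ^ p ^ n) g) = ρ g := by
  intro c
  induction c using Nat.strong_induction_on with
  | _ c ih =>
  intro Q _ _ hc hQ σ hσ hfpf ρ tw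
  have hqF : Fact q.Prime := ⟨hq⟩
  obtain ⟨cQ, hcQ⟩ := IsPGroup.iff_card.1 hQ
  have hcardE : (Nat.card Q : E) ≠ 0 := by
    rw [hcQ, Nat.cast_pow]; exact pow_ne_zero _ hqE
  by_cases hK : ρ.ker = ⊥
  · have hρ : Function.Injective ρ := (MonoidHom.ker_eq_bot_iff ρ).1 hK
    have hmin : ∀ H : Subgroup Q, H ≠ ⊤ → (∀ g ∈ H, σ g ∈ H) →
        ∀ g ∈ H, (σ ^ p ^ n) g = g := by
      intro H hH hinv g hg
      have hmap := map_eq_of_invariant σ H hinv
      let σH : MulAut H := restr σ H hmap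
      have hlt : Nat.card H < c := by
        rw [← hc]
        by_contra hcon
        push Not at hcon
        exact hH (Subgroup.eq_top_of_card_eq H (le_antisymm (Subgroup.card_le_card_group H) hcon))
      have h1 := ih (Nat.card H) hlt H rfl (hQ.to_subgroup H) σH
        (by
          ext y
          rw [restr_pow, hσ]; rfl)
        (by
          intro y hy
          apply Subtype.ext
          apply hfpf
          exact congrArg Subtype.val hy)
        (ρ.comp H.subtype)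
        (by
          intro y
          exact tw y)
        ⟨g, hg⟩
      apply hρ
      have h2 : (((σH ^ p ^ n) ⟨g, hg⟩ : H) : Q) = (σ ^ p ^ n) g := restr_pow σ H hmap _ _
      rw [← h2]
      exact h1
    by_cases hτ1 : σ ^ p ^ n = 1
    · intro g
      rw [hτ1]; rfl
    obtain ⟨cl2, hτfix, hgen, hnonab, hab⟩ := structure_min hq hQ hp hpq σ (σ ^ p ^ n)
      ((Commute.refl σ).pow_right _).eq
      (by rw [← pow_mul, ← pow_succ, hσ]) hτ1 hmin
    by_cases hZ : Subgroup.center Q = ⊤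
    · have h1 := trivial_of_fpf_powers ρ x σ (p ^ (n + 1)) (pow_pos hp.pos _) hx tw
        (fun k hk0 hk g hg => hab hZ g (fix_tau_of_fix_pow hp hσ hk0 hk hg)) hcardE hfix
      intro g
      rw [h1, h1]
    · exact (nonabelian_false hp hp2 hq hpq hQ n σ hσ hfpf ρ hρ x hx tw hpE hqE hfix hmin cl2
        hτfix hgen (hnonab hZ).1 (hnonab hZ).2 hZ).elim
  · -- pass to the quotient by the kernel
    have hxinv : x * x ^ (p ^ (n + 1) - 1) = 1 := by
      rw [← pow_succ', Nat.sub_add_cancel (Nat.one_le_iff_ne_zero.2 (pow_pos hp.pos _).ne'), hx]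
    have hinv : ∀ g ∈ ρ.ker, σ g ∈ ρ.ker := by
      intro g hg
      rw [MonoidHom.mem_ker] at hg ⊢
      have h1 := tw g
      rw [hg, mul_one] at h1
      have h2 := congrArg (fun f => f * x ^ (p ^ (n + 1) - 1)) h1
      simp only [mul_assoc, hxinv, mul_one] at h2
      exact h2.symm
    have hmap := map_eq_of_invariant σ ρ.ker hinv
    let σK : MulAut (Q ⧸ ρ.ker) := quot σ ρ.ker hmap
    have hlt : Nat.card (Q ⧸ ρ.ker) < c := by
      rw [← hc, Subgroup.card_eq_card_quotient_mul_card_subgroup ρ.ker]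
      have h1 : 1 < Nat.card ρ.ker := by
        rw [Finite.one_lt_card_iff_nontrivial]
        exact (Subgroup.nontrivial_iff_ne_bot _).2 hK
      have h2 : 0 < Nat.card (Q ⧸ ρ.ker) := Nat.card_pos
      nlinarith
    have hfpf' : MonoidHom.FixedPointFree (σ : Q ≃* Q) := fun g hg => hfpf g hg
    have hfpfK0 : MonoidHom.FixedPointFree (quot σ ρ.ker hmap) := quot_fpf hfpf' ρ.ker hmap
    have hfpfK : ∀ y : Q ⧸ ρ.ker, σK y = y → y = 1 := fun y hy => hfpfK0 y hy
    have h1 := ih (Nat.card (Q ⧸ ρ.ker)) hlt (Q ⧸ ρ.ker) rfl (hQ.to_quotient ρ.ker) σK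
      (by
        ext y
        obtain ⟨y, rfl⟩ := QuotientGroup.mk_surjective y
        rw [quot_pow, hσ]; rfl)
      hfpfK
      (QuotientGroup.lift ρ.ker ρ le_rfl)
      (by
        intro y
        obtain ⟨y, rfl⟩ := QuotientGroup.mk_surjective y
        exact tw y)
    intro g
    have h2 := h1 (g : Q ⧸ ρ.ker)
    rw [quot_pow] at h2
    exact h2

variable {E : Type*} [Field E] {U : Type*} [AddCommGroup U] [Module E U]
  {Q : Type*} [Group Q] [Finite Q]

/-- [T] (helper46) -/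
theorem coreT [IsAlgClosed E] [FiniteDimensional E U]
    {p q : ℕ} (hp : p.Prime) (hp2 : p ≠ 2) (hq : q.Prime) (hpq : p ≠ q) (hQ : IsPGroup q Q)
    (n : ℕ) (σ : MulAut Q) (hσ : σ ^ p ^ (n + 1) = 1) (hfpf : ∀ g, σ g = g → g = 1)
    (ρ : Q →* Module.End E U) (x : Module.End E U) (hx : x ^ p ^ (n + 1) = 1)
    (tw : ∀ g, x * ρ g = ρ (σ g) * x)
    (hpE : (p : E) ≠ 0) (hqE : (q : E) ≠ 0) (hfix : ∀ v, x v = v → v = 0) :
    ∀ g, ρ ((σ ^ p ^ n) g) = ρ g :=
  coreT_aux hp hp2 hq hpq n x hx hpE hqE hfix (Nat.card Q) Q rfl hQ σ hσ hfpf ρ tw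

end Cfsg.Agent.Lib.Helper46.Shult
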