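import Mathlib
import Cfsg.Prelude.Def_Transfer
import Cfsg.Agent.Lib.Helper46.Shult.T
import Cfsg.Agent.Lib.Helper46.ESBridge
import Cfsg.Agent.Lib.Lead.CosetSum
import Cfsg.Agent.Lib.Helper1.FPF

set_option autoImplicit false
set_option linter.unusedSectionVars false
set_option linter.unusedVariables false

namespace Cfsg.Agent.Lib.Helper46.Shult

open scoped commutatorElement

/-- abstract form of the bridge -/
theorem T_abs {A : Type*} [CommGroup A] [Finite A] {Q : Type*} [Group Q] [Finite Q]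
    {p q r : ℕ} (hp : p.Prime) (hp2 : p ≠ 2) (hq : q.Prime) (hr : r.Prime) (hqr : q ≠ r)
    (hpq : p ≠ q) (hpr : p ≠ r) (hexp : ∀ a : A, a ^ r = 1) (hQ : IsPGroup q Q)
    (n : ℕ) (σ : MulAut Q) (hσ : σ ^ p ^ (n + 1) = 1) (hfpf : ∀ g, σ g = g → g = 1)
    (c : Q →* MulAut A) (X : MulAut A) (hX : X ^ p ^ (n + 1) = 1)
    (tw : ∀ g, X * c g = c (σ g) * X) (hXf : ∀ a, X a = a → a = 1) :
    ∀ g, c ((σ ^ p ^ n) g) = c g := by
  have : Fact r.Prime := ⟨hr⟩
  let _ : Module (ZMod r) (Additive A) := AddCommGroup.zmodModule (n := r) (by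
    intro a
    exact congrArg Additive.ofMul (hexp (Additive.toMul a)))
  obtain ⟨d, Φ, h1, h2⟩ := Cfsg.Agent.Lib.Helper46.ESBridge.exists_rep_of_action (p := r)
    (Cfsg.Agent.Lib.Lead.mulAutToEnd A)
  have hne : ∀ m : ℕ, m.Prime → m ≠ r → ((m : ℕ) : AlgebraicClosure (ZMod r)) ≠ 0 := by
    intro m hm hmr h0
    have : CharP (AlgebraicClosure (ZMod r)) r := inferInstance
    rw [CharP.cast_eq_zero_iff (AlgebraicClosure (ZMod r)) r] at h0
    exact hmr ((Nat.prime_dvd_prime_iff_eq hr hm).mp h0).symm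
  have key := coreT (E := AlgebraicClosure (ZMod r)) (U := Fin d → AlgebraicClosure (ZMod r))
    hp hp2 hq hpq hQ n σ hσ hfpf (Φ.comp c) (Φ X) (by rw [← map_pow, hX, map_one])
    (by
      intro g
      rw [MonoidHom.comp_apply, MonoidHom.comp_apply, ← map_mul, ← map_mul, tw])
    (hne p hp hpr) (hne q hq hqr)
    (by
      apply h2 X
      intro a ha
      rw [Cfsg.Agent.Lib.Lead.mulAutToEnd_apply] at ha
      have h3 : X (Additive.toMul a) = Additive.toMul a := congrArg Additive.toMul ha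
      exact congrArg Additive.ofMul (hXf _ h3))
  intro g
  have h3 := key g
  rw [MonoidHom.comp_apply, MonoidHom.comp_apply] at h3
  have h4 : Φ (c ((σ ^ p ^ n) g) * (c g)⁻¹) = 1 := by
    rw [map_mul, h3, ← map_mul, mul_inv_cancel, map_one]
  have h5 := h1 _ h4
  have h6 : c ((σ ^ p ^ n) g) * (c g)⁻¹ = 1 := by
    apply Cfsg.Agent.Lib.Lead.mulAutToEnd_injective A
    rw [h5, map_one]
  exact mul_inv_eq_one.mp h6

theorem map_eq_of_forall_mem {G : Type*} [Group G] [Finite G] (σ : MulAut G) (H : Subgroup G)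
    (h : ∀ g ∈ H, σ g ∈ H) : H.map (σ : G →* G) = H := by
  apply Subgroup.eq_of_le_of_card_ge
  · rintro _ ⟨g, hg, rfl⟩
    exact h g hg
  · rw [Subgroup.card_map_of_injective (f := (σ : G →* G)) σ.injective]

theorem not_dvd_card_of_fpf {G : Type*} [Group G] [Finite G] {p : ℕ} (hp : p.Prime)
    (σ : MulAut G) (m : ℕ) (hσ : σ ^ p ^ m = 1) (hfpf : ∀ g, σ g = g → g = 1) :
    ¬ p ∣ Nat.card G := by
  have : Fact p.Prime := ⟨hp⟩
  have hP : IsPGroup p (Subgroup.zpowers σ) := by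
    rintro ⟨x, hx⟩
    obtain ⟨k, rfl⟩ := Subgroup.mem_zpowers_iff.mp hx
    refine ⟨m, Subtype.ext ?_⟩
    show (σ ^ k) ^ p ^ m = 1
    rw [← zpow_natCast, ← zpow_mul, mul_comm, zpow_mul, zpow_natCast, hσ, one_zpow]
  have h1 := hP.card_modEq_card_fixedPoints G
  have h2 : MulAction.fixedPoints (Subgroup.zpowers σ) G = {1} := by
    ext g
    constructor
    · intro hg
      exact hfpf g (hg ⟨σ, Subgroup.mem_zpowers σ⟩)
    · intro hg
      rw [Set.mem_singleton_iff.mp hg]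
      intro x
      exact map_one (x : MulAut G)
  rw [h2] at h1
  intro hd
  have h3 : Nat.card (({1} : Set G)) = 1 := by simp
  rw [h3] at h1
  have h4 : Nat.card G ≡ 0 [MOD p] := (Nat.modEq_zero_iff_dvd).mpr hd
  have h5 : 0 ≡ 1 [MOD p] := h4.symm.trans h1
  have h6 : p ∣ 1 := (Nat.modEq_iff_dvd' (by omega)).mp h5
  exact hp.one_lt.ne' (Nat.dvd_one.mp h6)

theorem eq_one_of_isPGroup_of_not_dvd {G : Type*} [Group G] [Finite G] {p : ℕ} (hp : p.Prime)
    (hd : ¬ p ∣ Nat.card G) (H : Subgroup G) (hH : IsPGroup p H) : ∀ g ∈ H, g = 1 := by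
  intro g hg
  obtain ⟨k, hk⟩ := hH ⟨g, hg⟩
  have h1 : g ^ p ^ k = 1 := by simpa using congrArg Subtype.val hk
  have h2 : orderOf g ∣ p ^ k := orderOf_dvd_of_pow_eq_one h1
  have h3 : orderOf g ∣ Nat.card G := orderOf_dvd_natCard g
  have hc : Nat.Coprime (p ^ k) (Nat.card G) :=
    Nat.Coprime.pow_left k ((Nat.Prime.coprime_iff_not_dvd hp).mpr hd)
  exact orderOf_eq_one_iff.mp (Nat.eq_one_of_dvd_coprimes hc h2 h3)

/-- [Tg] bridge -/
theorem T_grp {G : Type*} [Group G] [Finite G] {p q r : ℕ} (hp : p.Prime) (hp2 : p ≠ 2)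
    (hq : q.Prime) (hr : r.Prime) (hqr : q ≠ r)
    (σ : MulAut G) (n : ℕ) (hσ : σ ^ p ^ (n + 1) = 1) (hfpf : ∀ g, σ g = g → g = 1)
    (N : Subgroup G) [N.Normal] (hN : Cfsg.IsElementaryAbelian r N) (hNσ : ∀ g ∈ N, σ g ∈ N)
    (Q : Subgroup G) (hQ : IsPGroup q Q) (hQσ : ∀ g ∈ Q, σ g ∈ Q) :
    ∀ g ∈ Q, ∀ v ∈ N, ((σ ^ p ^ n) g * g⁻¹) * v = v * ((σ ^ p ^ n) g * g⁻¹) := by
  have hd := not_dvd_card_of_fpf hp σ (n + 1) hσ hfpf
  intro g hg v hv
  by_cases hpq : p = q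
  · subst hpq
    rw [eq_one_of_isPGroup_of_not_dvd hp hd Q hQ g hg]
    simp
  by_cases hpr : p = r
  · subst hpr
    have hNp : IsPGroup p N := by
      rintro ⟨x, hx⟩
      exact ⟨1, Subtype.ext (by simpa using hN.2 x hx)⟩
    rw [eq_one_of_isPGroup_of_not_dvd hp hd N hNp v hv]
    simp
  let _ : CommGroup N :=
    { (inferInstance : Group N) with mul_comm := fun a b => hN.1.is_comm.comm a b }
  have hmQ := map_eq_of_forall_mem σ Q hQσ
  have hmN := map_eq_of_forall_mem σ N hNσ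
  set σQ : MulAut Q := Cfsg.Agent.Lib.Helper1.FPF.restr σ Q hmQ with hσQ
  set X : MulAut N := Cfsg.Agent.Lib.Helper1.FPF.restr σ N hmN with hX
  have hpowQ : ∀ (k : ℕ) (x : Q), (((σQ ^ k) x : Q) : G) = (σ ^ k) x := by
    intro k x
    rw [Cfsg.Agent.Lib.Helper1.FPF.mulAut_pow_apply, hσQ,
      Cfsg.Agent.Lib.Helper1.FPF.restr_iterate, ← Cfsg.Agent.Lib.Helper1.FPF.mulAut_pow_apply]
  have hpowN : ∀ (k : ℕ) (x : N), (((X ^ k) x : N) : G) = (σ ^ k) x := by
    intro k x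
    rw [Cfsg.Agent.Lib.Helper1.FPF.mulAut_pow_apply, hX,
      Cfsg.Agent.Lib.Helper1.FPF.restr_iterate, ← Cfsg.Agent.Lib.Helper1.FPF.mulAut_pow_apply]
  let c : Q →* MulAut N := (MulAut.conjNormal : G →* MulAut N).comp Q.subtype
  have hc : ∀ (x : Q) (w : N), ((c x w : N) : G) = (x : G) * w * (x : G)⁻¹ := fun x w => rfl
  have key := T_abs (A := N) (Q := Q) hp hp2 hq hr hqr hpq hpr
    (fun a => Subtype.ext (by simpa using hN.2 a a.2)) hQ n σQ
    (by
      ext x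
      rw [hpowQ, hσ]; rfl)
    (by
      intro x hx
      apply Subtype.ext
      apply hfpf
      have := congrArg Subtype.val hx
      simpa [hσQ] using this)
    c X
    (by
      ext x
      rw [hpowN, hσ]; rfl)
    (by
      intro x
      ext w
      rw [MulAut.mul_apply, MulAut.mul_apply, hc]
      show σ ((c x w : N) : G) = _
      rw [hc, map_mul, map_mul, map_inv]
      rfl)
    (by
      intro x hx
      apply Subtype.ext
      apply hfpf
      have := congrArg Subtype.val hx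
      simpa [hX] using this)
  have h1 := key ⟨g, hg⟩
  have hw : g⁻¹ * v * g ∈ N := by
    have := (inferInstance : N.Normal).conj_mem v hv g⁻¹
    simpa using this
  have h2 := congrArg (fun f : MulAut N => ((f ⟨g⁻¹ * v * g, hw⟩ : N) : G)) h1
  simp only [hc, hpowQ] at h2
  set t := (σ ^ p ^ n) g with ht
  have h3 : t * (g⁻¹ * v * g) * t⁻¹ = v := by
    rw [h2]; group
  calc t * g⁻¹ * v = (t * (g⁻¹ * v * g) * t⁻¹) * (t * g⁻¹) := by group
    _ = v * (t * g⁻¹) := by rw [h3]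

end Cfsg.Agent.Lib.Helper46.Shult
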