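import Mathlib
import Cfsg.Prelude.Def_Solvable
import Cfsg.Agent.Lib.Helper46.Shult.Tg
import Cfsg.Agent.Lib.Helper1.FPF

set_option autoImplicit false
set_option linter.unusedSectionVars false
set_option linter.unusedVariables false

namespace Cfsg.Agent.Lib.Helper46.Shult

open scoped commutatorElement
open Cfsg.Agent.Lib.Helper1 Cfsg.Agent.Lib.Helper1.FPF
open MonoidHom (FixedPointFree)
open Pointwise

universe u

/-- `[G,τ,τ] = [G,τ]` for a coprime automorphism `τ` of order dividing `p`. -/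
theorem K_comm_comm {G : Type*} [Group G] [Finite G] {p : ℕ} (τ : MulAut G) (hτ : τ ^ p = 1)
    (hcop : (Nat.card G).Coprime p) (D : Subgroup G)
    (hD : D = Subgroup.closure {y : G | ∃ g, y = τ g * g⁻¹}) :
    D ≤ Subgroup.closure {y : G | ∃ d ∈ D, y = τ d * d⁻¹} := by
  set D1 := Subgroup.closure {y : G | ∃ d ∈ D, y = τ d * d⁻¹} with hD1
  have hτD : ∀ x ∈ D, τ x ∈ D := by
    intro x hx
    rw [hD] at hx ⊢
    induction hx using Subgroup.closure_induction with
    | mem y hy =>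
      obtain ⟨g, rfl⟩ := hy
      exact Subgroup.subset_closure ⟨τ g, by simp⟩
    | one => rw [map_one]; exact Subgroup.one_mem _
    | mul a b _ _ ha hb => rw [map_mul]; exact Subgroup.mul_mem _ ha hb
    | inv a _ ha => rw [map_inv]; exact Subgroup.inv_mem _ ha
  have hgen : ∀ g, τ g * g⁻¹ ∈ D1 := by
    intro g
    set d := τ g * g⁻¹ with hd
    have hdD : d ∈ D := by rw [hD]; exact Subgroup.subset_closure ⟨g, rfl⟩
    have key : ∀ j : ℕ, (τ ^ j) g * g⁻¹ ∈ D ∧ (τ ^ j) g * g⁻¹ * (d ^ j)⁻¹ ∈ D1 := by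
      intro j
      induction j with
      | zero => simp
      | succ j ih =>
        obtain ⟨h1, h2⟩ := ih
        have hstep : (τ ^ (j + 1)) g * g⁻¹ = τ ((τ ^ j) g * g⁻¹) * d := by
          rw [pow_succ', MulAut.mul_apply, map_mul, map_inv, hd]
          group
        refine ⟨by rw [hstep]; exact D.mul_mem (hτD _ h1) hdD, ?_⟩
        have h3 : τ ((τ ^ j) g * g⁻¹) * ((τ ^ j) g * g⁻¹)⁻¹ ∈ D1 :=
          Subgroup.subset_closure ⟨_, h1, rfl⟩
        have h4 := D1.mul_mem h3 h2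
        have : (τ ^ (j + 1)) g * g⁻¹ * (d ^ (j + 1))⁻¹
            = τ ((τ ^ j) g * g⁻¹) * ((τ ^ j) g * g⁻¹)⁻¹ * ((τ ^ j) g * g⁻¹ * (d ^ j)⁻¹) := by
          rw [hstep, pow_succ]
          group
        rw [this]
        exact h4
    have hp1 := (key p).2
    rw [hτ, MulAut.one_apply, mul_inv_cancel, one_mul] at hp1
    have hp2 : d ^ p ∈ D1 := by simpa using D1.inv_mem hp1
    have hco : Nat.Coprime p (orderOf d) :=
      (Nat.Coprime.coprime_dvd_left (orderOf_dvd_natCard d) hcop).symm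
    obtain ⟨m, hm⟩ := exists_pow_eq_self_of_coprime hco
    rw [← hm]
    exact D1.pow_mem hp2 m
  rw [hD, Subgroup.closure_le]
  rintro _ ⟨g, rfl⟩
  exact hgen g

/-- The order of a group with a fixed-point-free automorphism of `p`-power order is prime to `p`. -/
theorem K_coprime {G : Type*} [Group G] [Finite G] {p : ℕ} (hp : p.Prime) (σ : MulAut G) (m : ℕ)
    (hσ : σ ^ p ^ m = 1) (hfpf : ∀ g, σ g = g → g = 1) : (Nat.card G).Coprime p := by
  have : Fact p.Prime := ⟨hp⟩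
  obtain ⟨k, -, hk⟩ := (Nat.dvd_prime_pow hp).1 (orderOf_dvd_of_pow_eq_one hσ)
  have hP : IsPGroup p (Subgroup.zpowers σ) := IsPGroup.of_card (n := k) (by
    rw [Nat.card_zpowers, hk])
  have h1 := hP.card_modEq_card_fixedPoints G
  have h2 : MulAction.fixedPoints (Subgroup.zpowers σ) G = {1} := by
    ext g
    constructor
    · intro hg
      exact hfpf g (hg ⟨σ, Subgroup.mem_zpowers σ⟩)
    · rintro rfl ⟨a, ha⟩
      exact map_one a
  rw [h2] at h1
  have h3 : Nat.card ({1} : Set G) = 1 := by simp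
  rw [h3] at h1
  rw [Nat.coprime_comm, Nat.Prime.coprime_iff_not_dvd hp]
  intro hd
  have h4 : Nat.card G ≡ 0 [MOD p] := (Nat.modEq_zero_iff_dvd).2 hd
  have h5 : 1 ≡ 0 [MOD p] := h1.symm.trans h4
  have := (Nat.modEq_zero_iff_dvd).1 h5
  exact hp.one_lt.ne' (Nat.dvd_one.1 this)

/-- If `V` is a normal `r`-subgroup, `G/V` is nilpotent and all Sylow `q`-subgroups, `q ≠ r`,
centralize `V`, then `G` is nilpotent. -/
theorem K_nilpotent_of_quot {G : Type*} [Group G] [Finite G] {r : ℕ} [Fact r.Prime]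
    (V : Subgroup G) [V.Normal] (hVpg : IsPGroup r V) (hQnil : Group.IsNilpotent (G ⧸ V))
    (hcent : ∀ (q : ℕ) [Fact q.Prime], q ≠ r → ∀ Q : Sylow q G,
      (Q : Subgroup G) ≤ Subgroup.centralizer (V : Set G)) : Group.IsNilpotent G := by
  have q := (Group.isNilpotent_of_finite_tfae (G := G)).out 0 3
  rw [q]
  intro q' hq' Q
  have hQV : ((Q : Subgroup G) ⊔ V).Normal := by
    have h1 : ((Sylow.mapSurjective (QuotientGroup.mk'_surjective V) Q : Sylow q' (G ⧸ V)) :
        Subgroup (G ⧸ V)).Normal := inferInstance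
    have h2 := h1.comap (QuotientGroup.mk' V)
    rwa [Sylow.coe_mapSurjective, Subgroup.comap_map_eq, QuotientGroup.ker_mk'] at h2
  by_cases hqp : q' = r
  · subst hqp
    rwa [sup_of_le_left (hVpg.le_sylow_of_normal Q)] at hQV
  have hQC := hcent q' hqp Q
  have hQVN : (Q : Subgroup G) ⊔ V ≤ Subgroup.normalizer ((Q : Subgroup G) : Set G) :=
    sup_le Subgroup.le_normalizer
      ((Subgroup.le_centralizer_iff.1 hQC).trans (Subgroup.centralizer_le_normalizer _))
  rw [← Subgroup.normalizer_eq_top_iff, eq_top_iff]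
  intro g _
  rw [mem_normalizer_iff_conj_smul]
  have h1 : MulAut.conj g • (Q : Subgroup G) ≤ (Q : Subgroup G) ⊔ V := by
    rw [← Subgroup.Normal.conj_smul_eq_self g ((Q : Subgroup G) ⊔ V)]
    exact Subgroup.pointwise_smul_le_pointwise_smul_iff.2 le_sup_left
  have hi : ∀ R : Sylow q' G, (R : Subgroup G) ≤ (Q : Subgroup G) ⊔ V →
      ¬ q' ∣ (R : Subgroup G).relIndex ((Q : Subgroup G) ⊔ V) :=
    fun R hR hd => R.not_dvd_index (hd.trans (Subgroup.relIndex_dvd_index_of_le hR))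
  have h2 := hi (g • Q) (by rw [Sylow.coe_subgroup_smul]; exact h1)
  rw [Sylow.coe_subgroup_smul] at h2
  obtain ⟨m, hm, hmQ⟩ := exists_conj_of_sylow_rel (p := q') le_sup_left h1 Q.isPGroup'
    (by rw [← Sylow.coe_subgroup_smul]; exact (g • Q).isPGroup') (hi Q le_sup_left) h2
  have h3 := mem_normalizer_iff_conj_smul.1 (hQVN hm)
  exact smul_left_cancel _ (hmQ.trans h3.symm)

theorem K_quot_pow {G : Type*} [Group G] (σ : MulAut G) (V : Subgroup G) [V.Normal]
    (h : V.map (σ : G →* G) = V) (k : ℕ) (x : G) :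
    ((quot σ V h : MulAut (G ⧸ V)) ^ k) (x : G ⧸ V) = (((σ ^ k) x : G) : G ⧸ V) := by
  rw [mulAut_pow_apply, mulAut_pow_apply]
  exact quot_iterate σ V h k x

theorem K_restr_pow {G : Type*} [Group G] (σ : MulAut G) (D : Subgroup G)
    (h : D.map (σ : G →* G) = D) (k : ℕ) (x : D) :
    ((((restr σ D h : MulAut D) ^ k) x : D) : G) = (σ ^ k) x := by
  rw [mulAut_pow_apply, mulAut_pow_apply]
  exact restr_iterate σ D h k x

/-- A subgroup containing a Sylow `q`-subgroup for every prime `q` is everything. -/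
theorem K_eq_top_of_sylow {G : Type*} [Group G] [Finite G] (S : Subgroup G)
    (h : ∀ (q : ℕ) [Fact q.Prime], ∃ Q : Sylow q G, (Q : Subgroup G) ≤ S) : S = ⊤ := by
  rw [← Subgroup.index_eq_one, Nat.eq_one_iff_not_exists_prime_dvd]
  intro q hq hdvd
  have : Fact q.Prime := ⟨hq⟩
  obtain ⟨Q, hQ⟩ := h q
  exact Q.not_dvd_index (hdvd.trans (Subgroup.index_dvd_of_le hQ))

theorem K_nil_aux {p : ℕ} (hp : p.Prime) (hp2 : p ≠ 2) (n : ℕ) (N : ℕ) :
    ∀ (G : Type u) [Group G] [Finite G] (σ : MulAut G), Group.IsSolvable G →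
      σ ^ p ^ (n + 1) = 1 → (∀ g, σ g = g → g = 1) →
      Subgroup.closure {y : G | ∃ g, y = (σ ^ p ^ n) g * g⁻¹} = ⊤ →
      Nat.card G = N → Group.IsNilpotent G := by
  induction N using Nat.strong_induction_on with
  | _ N ih =>
  intro G _ _ σ hsol hσ hfpf hgen hN
  subst hN
  by_cases hnt : Nontrivial G
  swap
  · rw [not_nontrivial_iff_subsingleton] at hnt
    infer_instance
  have hφ : FixedPointFree (σ : G ≃* G) := hfpf
  set τ : MulAut G := σ ^ p ^ n with hτ
  let S : Set (Subgroup G) := {S | S.Normal ∧ S.map (σ : G →* G) = S ∧ S ≠ ⊥}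
  obtain ⟨V, hV⟩ := (Set.toFinite S).exists_minimal
    ⟨⊤, inferInstance, Subgroup.map_top_of_surjective _ σ.surjective, top_ne_bot⟩
  obtain ⟨hVn, hVφ, hVne⟩ := hV.prop
  have hmin : ∀ M : Subgroup G, M.Normal → M.map (σ : G →* G) = M → M ≤ V → M = ⊥ ∨ M = V := by
    intro M h1 h2 h3
    by_cases hM0 : M = ⊥
    · exact Or.inl hM0
    · exact Or.inr (le_antisymm h3 (hV.le_of_le ⟨h1, h2, hM0⟩ h3))
  have hVsolv : Group.IsSolvable V := inferInstance
  have hlt := commutator_lt_of_isSolvable hVsolv hVne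
  have hbot : ⁅V, V⁆ = ⊥ := by
    rcases hmin ⁅V, V⁆ inferInstance (by rw [Subgroup.map_commutator, hVφ]) hlt.le with h | h
    · exact h
    · exact absurd h hlt.ne
  have hcomm : ∀ x ∈ V, ∀ y ∈ V, x * y = y * x := by
    rw [Subgroup.commutator_eq_bot_iff_le_centralizer] at hbot
    intro x hx y hy
    exact ((Subgroup.mem_centralizer_iff.1 (hbot hx)) y hy).symm
  have hcard : Nat.card V ≠ 1 := fun h => hVne (Subgroup.card_eq_one.1 h)
  let r := (Nat.card V).minFac
  have hr : r.Prime := Nat.minFac_prime hcard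
  have : Fact r.Prime := ⟨hr⟩
  let Ω : Subgroup G :=
    { carrier := {x | x ∈ V ∧ x ^ r = 1}
      mul_mem' := by
        rintro a b ⟨ha, ha'⟩ ⟨hb, hb'⟩
        refine ⟨V.mul_mem ha hb, ?_⟩
        rw [(show Commute a b from hcomm a ha b hb).mul_pow, ha', hb', one_mul]
      one_mem' := ⟨V.one_mem, one_pow _⟩
      inv_mem' := by
        rintro a ⟨ha, ha'⟩
        exact ⟨V.inv_mem ha, by rw [inv_pow, ha', inv_one]⟩ }
  have hΩn : Ω.Normal := by
    constructor
    rintro x ⟨hx, hx'⟩ g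
    exact ⟨hVn.conj_mem x hx g, by rw [conj_pow, hx', mul_one, mul_inv_cancel]⟩
  have hΩle : Ω ≤ V := fun x hx => hx.1
  have hΩφ : Ω.map (σ : G →* G) = Ω := by
    apply le_antisymm
    · rintro _ ⟨x, ⟨hx, hx'⟩, rfl⟩
      refine ⟨by rw [← hVφ]; exact Subgroup.mem_map_of_mem _ hx, ?_⟩
      rw [← map_pow, hx', map_one]
    · rintro x ⟨hx, hx'⟩
      rw [← hVφ] at hx
      obtain ⟨y, hy, rfl⟩ := hx
      refine ⟨y, ⟨hy, ?_⟩, rfl⟩
      apply σ.injective
      rw [map_pow, map_one]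
      exact hx'
  obtain ⟨x, hx⟩ := exists_prime_orderOf_dvd_card' (G := V) r (Nat.minFac_dvd _)
  have hΩne : Ω ≠ ⊥ := by
    intro h
    have h1 : (x : G) ∈ Ω := ⟨x.2, by
      rw [← Subgroup.coe_pow, ← hx, pow_orderOf_eq_one, Subgroup.coe_one]⟩
    rw [h, Subgroup.mem_bot] at h1
    have h2 : x = 1 := Subtype.ext h1
    rw [h2, orderOf_one] at hx
    exact hr.one_lt.ne hx
  have hVp : ∀ y ∈ V, y ^ r = 1 := by
    rcases hmin Ω hΩn hΩφ hΩle with h | h
    · exact absurd h hΩne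
    · intro y hy
      rw [← h] at hy
      exact hy.2
  have hVpg : IsPGroup r V := isPGroup_of_forall_pow_eq_one hVp
  have hVel : Cfsg.IsElementaryAbelian r V :=
    ⟨⟨⟨fun a b => Subtype.ext (hcomm a a.2 b b.2)⟩⟩, hVp⟩
  have hVσ : ∀ g ∈ V, σ g ∈ V := by
    intro g hg
    rw [← hVφ]
    exact Subgroup.mem_map_of_mem _ hg
  -- the quotient is nilpotent
  have hQnil : Group.IsNilpotent (G ⧸ V) := by
    refine ih _ (card_quotient_lt_of_ne_bot hVne) (G ⧸ V) (quot σ V hVφ) inferInstance ?_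
      (quot_fpf hφ V hVφ) ?_ rfl
    · ext x
      obtain ⟨x, rfl⟩ := QuotientGroup.mk_surjective x
      rw [K_quot_pow, hσ]
      rfl
    · rw [eq_top_iff]
      have h1 : (⊤ : Subgroup (G ⧸ V)) = (⊤ : Subgroup G).map (QuotientGroup.mk' V) :=
        (Subgroup.map_top_of_surjective _ (QuotientGroup.mk'_surjective V)).symm
      rw [h1, ← hgen, MonoidHom.map_closure, Subgroup.closure_le]
      rintro _ ⟨_, ⟨g, rfl⟩, rfl⟩
      apply Subgroup.subset_closure
      refine ⟨(g : G ⧸ V), ?_⟩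
      rw [K_quot_pow]
      rfl
  set C := Subgroup.centralizer (V : Set G) with hC
  obtain ⟨R⟩ : Nonempty (Sylow r G) := inferInstance
  have hRn : (R : Subgroup G).Normal := by
    have h1 : ((Sylow.mapSurjective (QuotientGroup.mk'_surjective V) R : Sylow r (G ⧸ V)) :
        Subgroup (G ⧸ V)).Normal := inferInstance
    have h2 := h1.comap (QuotientGroup.mk' V)
    rw [Sylow.coe_mapSurjective, Subgroup.comap_map_eq, QuotientGroup.ker_mk',
      sup_of_le_left (hVpg.le_sylow_of_normal R)] at h2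
    exact h2
  have hRchar : (R : Subgroup G).Characteristic := Sylow.characteristic_of_normal R hRn
  set L := (R : Subgroup G) ⊔ C with hL
  have hLn : L.Normal := inferInstance
  let S' : Subgroup G :=
    { carrier := {g | τ g * g⁻¹ ∈ L}
      mul_mem' := by
        intro a b ha hb
        have h1 : τ (a * b) * (a * b)⁻¹ = τ a * a⁻¹ * (a * (τ b * b⁻¹) * a⁻¹) := by
          rw [map_mul]; group
        show τ (a * b) * (a * b)⁻¹ ∈ L
        rw [h1]
        exact L.mul_mem ha (hLn.conj_mem _ hb a)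
      one_mem' := by
        show τ 1 * 1⁻¹ ∈ L
        simp
      inv_mem' := by
        intro a ha
        have h1 : τ a⁻¹ * a⁻¹⁻¹ = a⁻¹ * (τ a * a⁻¹)⁻¹ * a⁻¹⁻¹ := by
          rw [map_inv]; group
        show τ a⁻¹ * a⁻¹⁻¹ ∈ L
        rw [h1]
        exact hLn.conj_mem _ (L.inv_mem ha) a⁻¹ }
  have hS' : S' = ⊤ := by
    apply K_eq_top_of_sylow
    intro q hq
    by_cases hqr : q = r
    · subst hqr
      refine ⟨R, fun g hg => ?_⟩
      have h1 : τ g ∈ (R : Subgroup G) := by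
        have := Subgroup.characteristic_iff_map_eq.1 hRchar τ
        rw [← this]
        exact Subgroup.mem_map_of_mem _ hg
      exact (le_sup_left : (R : Subgroup G) ≤ L)
        ((R : Subgroup G).mul_mem h1 ((R : Subgroup G).inv_mem hg))
    · obtain ⟨Q₀, hQ₀⟩ := Cfsg.Agent.S0031.result σ hφ q
      refine ⟨Q₀, fun g hg => (le_sup_right : C ≤ L) ?_⟩
      rw [hC, Subgroup.mem_centralizer_iff]
      intro v hv
      have hQσ : ∀ g ∈ (Q₀ : Subgroup G), σ g ∈ (Q₀ : Subgroup G) := by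
        intro g hg
        rw [← hQ₀]
        exact Subgroup.mem_map_of_mem _ hg
      exact (T_grp hp hp2 hq.out hr hqr σ n hσ hfpf V hVel hVσ Q₀ Q₀.isPGroup' hQσ g hg v hv).symm
  have hLtop : L = ⊤ := by
    rw [eq_top_iff, ← hgen, Subgroup.closure_le]
    rintro _ ⟨g, rfl⟩
    have : g ∈ S' := by rw [hS']; trivial
    exact this
  -- `G / C` is an `r`-group
  have hGC : IsPGroup r (G ⧸ C) := by
    refine IsPGroup.of_surjective R.isPGroup' ((QuotientGroup.mk' C).comp (R : Subgroup G).subtype) ?_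
    intro x
    obtain ⟨x, rfl⟩ := QuotientGroup.mk_surjective x
    have hx : x ∈ ((L : Subgroup G) : Set G) := by rw [hLtop]; trivial
    rw [hL, Subgroup.mul_normal] at hx
    obtain ⟨a, ha, c, hc, rfl⟩ := hx
    refine ⟨⟨a, ha⟩, ?_⟩
    show (a : G ⧸ C) = ((a * c : G) : G ⧸ C)
    rw [QuotientGroup.eq]
    simpa using hc
  apply K_nilpotent_of_quot V hVpg hQnil
  intro q hq hqr Q x hx
  have h1 : ((x : G) : G ⧸ C) = 1 := by
    obtain ⟨k, hk⟩ := hGC (x : G ⧸ C)
    obtain ⟨l, hl⟩ := Q.isPGroup' ⟨x, hx⟩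
    have hl' : ((x : G) : G ⧸ C) ^ q ^ l = 1 := by
      have := congrArg (fun z : (Q : Subgroup G) => ((z : G) : G ⧸ C)) hl
      simpa using this
    have hcop : Nat.Coprime (r ^ k) (q ^ l) :=
      Nat.Coprime.pow _ _ ((Nat.coprime_primes hr hq.out).2 (Ne.symm hqr))
    have h2 := orderOf_dvd_of_pow_eq_one hk
    have h3 := orderOf_dvd_of_pow_eq_one hl'
    have h4 := Nat.eq_one_of_dvd_coprimes hcop h2 h3
    exact orderOf_eq_one_iff.1 h4
  exact (QuotientGroup.eq_one_iff x).1 h1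

/-- [K] -/
theorem key {G : Type*} [Group G] [Finite G] (hG : Group.IsSolvable G) {p : ℕ} (hp : p.Prime)
    (hp2 : p ≠ 2) (σ : MulAut G) (n : ℕ) (hσ : σ ^ p ^ (n + 1) = 1)
    (hfpf : ∀ g, σ g = g → g = 1) : ∀ g, (σ ^ p ^ n) g * g⁻¹ ∈ Cfsg.fittingSubgroup G := by
  set τ : MulAut G := σ ^ p ^ n with hτ
  set D := Subgroup.closure {y : G | ∃ g, y = τ g * g⁻¹} with hD
  have hcop := K_coprime hp σ (n + 1) hσ hfpf
  have hτp : τ ^ p = 1 := by rw [hτ, ← pow_mul, ← pow_succ, hσ]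
  have hDD := K_comm_comm τ hτp hcop D hD
  have hcomm : ∀ g, σ (τ g) = τ (σ g) := by
    intro g
    have : σ * τ = τ * σ := by rw [hτ, ← pow_succ', ← pow_succ]
    exact congrArg (fun f : MulAut G => f g) this
  have hDn : D.Normal := by
    constructor
    intro d hd x
    rw [hD] at hd ⊢
    induction hd using Subgroup.closure_induction with
    | mem y hy =>
      obtain ⟨g, rfl⟩ := hy
      have h1 : x * (τ g * g⁻¹) * x⁻¹ = (τ x * x⁻¹)⁻¹ * (τ (x * g) * (x * g)⁻¹) := by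
        rw [map_mul]; group
      rw [h1]
      exact Subgroup.mul_mem _ (Subgroup.inv_mem _ (Subgroup.subset_closure ⟨x, rfl⟩))
        (Subgroup.subset_closure ⟨x * g, rfl⟩)
    | one => simp
    | mul a b _ _ ha hb =>
      have : x * (a * b) * x⁻¹ = (x * a * x⁻¹) * (x * b * x⁻¹) := by group
      rw [this]; exact Subgroup.mul_mem _ ha hb
    | inv a _ ha =>
      have : x * a⁻¹ * x⁻¹ = (x * a * x⁻¹)⁻¹ := by group
      rw [this]; exact Subgroup.inv_mem _ ha
  have hDσ : D.map (σ : G →* G) = D := by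
    have hle : D.map (σ : G →* G) ≤ D := by
      rw [hD, MonoidHom.map_closure, Subgroup.closure_le]
      rintro _ ⟨_, ⟨g, rfl⟩, rfl⟩
      apply Subgroup.subset_closure
      refine ⟨σ g, ?_⟩
      show σ (τ g * g⁻¹) = _
      rw [map_mul, map_inv, hcomm]
    apply Subgroup.eq_of_le_of_card_ge hle
    rw [Subgroup.card_map_of_injective σ.injective]
  have hnil : Group.IsNilpotent D := by
    refine K_nil_aux hp hp2 n _ D (restr σ D hDσ) inferInstance ?_ ?_ ?_ rfl
    · ext x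
      rw [K_restr_pow, hσ]
      rfl
    · exact restr_fpf (φ := σ) hfpf D hDσ
    · rw [eq_top_iff]
      rintro ⟨x, hx⟩ -
      have hx1 := hDD hx
      have hmap : Subgroup.closure {y : G | ∃ d ∈ D, y = τ d * d⁻¹}
          ≤ (Subgroup.closure {y : D | ∃ g, y = ((restr σ D hDσ : MulAut D) ^ p ^ n) g * g⁻¹}).map
            D.subtype := by
        rw [Subgroup.closure_le]
        rintro _ ⟨d, hd, rfl⟩
        refine ⟨((restr σ D hDσ : MulAut D) ^ p ^ n) ⟨d, hd⟩ * (⟨d, hd⟩ : D)⁻¹,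
          Subgroup.subset_closure ⟨⟨d, hd⟩, rfl⟩, ?_⟩
        show ((((restr σ D hDσ : MulAut D) ^ p ^ n) ⟨d, hd⟩ * (⟨d, hd⟩ : D)⁻¹ : D) : G) = _
        rw [Subgroup.coe_mul, K_restr_pow]
        rfl
      obtain ⟨z, hz, hzx⟩ := hmap hx1
      have : z = ⟨x, hx⟩ := Subtype.ext hzx
      rw [← this]
      exact hz
  intro g
  have h1 : D ≤ Cfsg.fittingSubgroup G := le_sSup ⟨hDn, hnil⟩
  exact h1 (Subgroup.subset_closure ⟨g, rfl⟩)

end Cfsg.Agent.Lib.Helper46.Shult
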