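import Mathlib
import Cfsg.Agent.Lib.Helper46.Shult.K
import Cfsg.Agent.Lib.Helper1.Cores
import Cfsg.Agent.Lib.Helper1.FPF
import Cfsg.Agent.Lib.Helper91.Fitting

set_option autoImplicit false
set_option linter.unusedSectionVars false
set_option linter.unusedVariables false

namespace Cfsg.Agent.Lib.Helper46.Shult

open scoped commutatorElement

universe u

theorem final_aux {p : ℕ} (hp : p.Prime) (hp2 : p ≠ 2) (n : ℕ) :
    ∀ (G : Type u) [Group G] [Finite G], Group.IsSolvable G → ∀ σ : MulAut G, σ ^ p ^ n = 1 →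
      (∀ g : G, σ g = g → g = 1) →
    ∃ F : Fin (n + 1) → Subgroup G, F 0 = ⊥ ∧ F (Fin.last n) = ⊤ ∧ Monotone F ∧
      (∀ i, (F i).Normal) ∧
      ∀ i : Fin n, ∃ k : ℕ, (F i.succ).lowerCentralSeries k ≤ F i.castSucc := by
  induction n with
  | zero =>
    intro G _ _ hG σ hσ hfpf
    have h1 : σ = 1 := by simpa using hσ
    have h2 : ∀ g : G, g = 1 := fun g => hfpf g (by rw [h1]; rfl)
    refine ⟨fun _ => ⊥, rfl, ?_, fun _ _ _ => le_rfl, fun _ => inferInstance, fun i => i.elim0⟩
    rw [eq_comm, eq_bot_iff]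
    intro g _
    rw [Subgroup.mem_bot]
    exact h2 g
  | succ n ih =>
    intro G _ _ hG σ hσ hfpf
    set Fit : Subgroup G := Cfsg.fittingSubgroup G with hFit
    have hchar : Fit.Characteristic := Cfsg.Agent.Lib.Helper1.fittingSubgroup_characteristic
    have hnorm : Fit.Normal := inferInstance
    have hmap : Fit.map (σ : G →* G) = Fit := Subgroup.characteristic_iff_map_eq.mp hchar σ
    set σb : MulAut (G ⧸ Fit) := Cfsg.Agent.Lib.Helper1.FPF.quot σ Fit hmap with hσb
    have hkey := key hG hp hp2 σ n hσ hfpf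
    have hpow : σb ^ p ^ n = 1 := by
      ext x
      obtain ⟨g, rfl⟩ := QuotientGroup.mk_surjective x
      rw [Cfsg.Agent.Lib.Helper1.FPF.mulAut_pow_apply, hσb,
        Cfsg.Agent.Lib.Helper1.FPF.quot_iterate, ← Cfsg.Agent.Lib.Helper1.FPF.mulAut_pow_apply,
        MulAut.one_apply]
      rw [eq_comm, QuotientGroup.eq]
      have h3 := hkey g
      have h4 := hnorm.conj_mem _ h3 g⁻¹
      have h5 : g⁻¹ * ((σ ^ p ^ n) g * g⁻¹) * g⁻¹⁻¹ = g⁻¹ * (σ ^ p ^ n) g := by group
      rwa [h5] at h4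
    have hfb : ∀ x : G ⧸ Fit, σb x = x → x = 1 :=
      Cfsg.Agent.Lib.Helper1.FPF.quot_fpf (φ := σ) hfpf Fit hmap
    have hsol : Group.IsSolvable (G ⧸ Fit) := inferInstance
    obtain ⟨Fb, hF0, hFl, hFm, hFn, hFs⟩ := ih (G ⧸ Fit) hsol σb hpow hfb
    refine ⟨Fin.cons ⊥ (fun i => (Fb i).comap (QuotientGroup.mk' Fit)), rfl, ?_, ?_, ?_, ?_⟩
    · have : Fin.last (n + 1) = (Fin.last n).succ := rfl
      rw [this, Fin.cons_succ, hFl, Subgroup.comap_top]
    · intro i j hij
      induction i using Fin.cases with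
      | zero => rw [Fin.cons_zero]; exact bot_le
      | succ i =>
        induction j using Fin.cases with
        | zero => exact absurd hij (by simp)
        | succ j =>
          rw [Fin.cons_succ, Fin.cons_succ]
          exact Subgroup.comap_mono (hFm (Fin.succ_le_succ_iff.mp hij))
    · intro i
      induction i using Fin.cases with
      | zero => rw [Fin.cons_zero]; infer_instance
      | succ i => rw [Fin.cons_succ]; exact (hFn i).comap _
    · intro i
      induction i using Fin.cases with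
      | zero =>
        have hnil : Group.IsNilpotent Fit := Cfsg.Agent.Lib.Helper91.fittingSubgroup_isNilpotent
        obtain ⟨k, hk⟩ := (Subgroup.isNilpotent_iff_lowerCentralSeries Fit).1 hnil
        refine ⟨k, ?_⟩
        have hker : (⊥ : Subgroup (G ⧸ Fit)).comap (QuotientGroup.mk' Fit) = Fit :=
          QuotientGroup.ker_mk' Fit
        rw [Fin.cons_succ, hF0, hker, hk]
        exact bot_le
      | succ i =>
        obtain ⟨k, hk⟩ := hFs i
        refine ⟨k, ?_⟩
        have : (Fin.succ i).castSucc = (Fin.castSucc i).succ := rfl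
        rw [this, Fin.cons_succ, Fin.cons_succ, ← Subgroup.map_le_iff_le_comap,
          Subgroup.map_lowerCentralSeries]
        exact (Subgroup.lowerCentralSeries_mono k (Subgroup.map_comap_le _ _)).trans hk

/-- [F] -/
theorem final {G : Type*} [Group G] [Finite G] (hG : Group.IsSolvable G) {p : ℕ} (hp : p.Prime)
    (hp2 : p ≠ 2) (σ : MulAut G) (n : ℕ) (hσ : σ ^ p ^ n = 1) (hfpf : ∀ g : G, σ g = g → g = 1) :
    ∃ F : Fin (n + 1) → Subgroup G, F 0 = ⊥ ∧ F (Fin.last n) = ⊤ ∧ Monotone F ∧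
      (∀ i, (F i).Normal) ∧
      ∀ i : Fin n, ∃ k : ℕ, (F i.succ).lowerCentralSeries k ≤ F i.castSucc :=
  final_aux hp hp2 n G hG σ hσ hfpf

end Cfsg.Agent.Lib.Helper46.Shult
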